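import Groth.Agent.LimTop61.DvrDense

/-! Valuative criteria tested at points with dense image, without separatedness. -/

set_option autoImplicit false
set_option backward.isDefEq.respectTransparency false
universe u

open CategoryTheory CategoryTheory.Limits AlgebraicGeometry IsLocalRing

namespace Groth.Agent.Val57

open LimTop61

set_option maxHeartbeats 1000000 in
/-- Lifts at points generizing every point give the existence part of the valuative criterion. -/
theorem existence_of_lifts {U X S : Scheme.{u}} (f : X ⟶ S) (h : U ⟶ X)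
    (T : Set U) (hd : ∀ x : X, ∃ u ∈ T, h u ⤳ x)
    (H : ∀ u ∈ T, ∀ (V : ValuationSubring (U.residueField u)) (y : Spec (CommRingCat.of V) ⟶ S),
        Spec.map (CommRingCat.ofHom V.subtype) ≫ y = U.fromSpecResidueField u ≫ h ≫ f →
        ∃ l : Spec (CommRingCat.of V) ⟶ X, l ≫ f = y ∧
          Spec.map (CommRingCat.ofHom V.subtype) ≫ l = U.fromSpecResidueField u ≫ h)
    (Huniq : ∀ u ∈ T, ∀ (O : ValuationSubring (U.residueField u)) (a b : Spec (CommRingCat.of O) ⟶ X),
        Spec.map (CommRingCat.ofHom O.subtype) ≫ a = U.fromSpecResidueField u ≫ h →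
        Spec.map (CommRingCat.ofHom O.subtype) ≫ b = U.fromSpecResidueField u ≫ h →
        a ≫ f = b ≫ f → a = b) :
    ValuativeCriterion.Existence f := by
  rintro ⟨R, K, i₁, i₂, ⟨hsq⟩⟩
  obtain ⟨⟨x, k₀⟩, hk₀⟩ := (Scheme.SpecToEquivOfField K X).symm.surjective i₁
  change Spec.map k₀ ≫ X.fromSpecResidueField x = i₁ at hk₀
  subst hk₀
  -- the valuation subring of the residue field
  let R₀ : ValuationSubring (X.residueField x) :=
    { toSubring := (algebraMap R K).range.comap k₀.hom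
      mem_or_inv_mem' := fun a => by
        rcases ValuationRing.isInteger_or_isInteger R (k₀ a) with ha | ha
        · exact Or.inl ha
        · right
          show k₀.hom a⁻¹ ∈ (algebraMap R K).range
          rw [map_inv₀]
          exact ha }
  have hinj : Function.Injective (algebraMap R K) := IsFractionRing.injective R K
  let eR : R ≃+* (algebraMap R K).range := RingEquiv.ofBijective (algebraMap R K).rangeRestrict
    ⟨fun a b hab => hinj (congrArg Subtype.val hab), (algebraMap R K).rangeRestrict_surjective⟩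
  let θ' : CommRingCat.of R₀ ⟶ CommRingCat.of R := CommRingCat.ofHom
    (eR.symm.toRingHom.comp ((k₀.hom.comp R₀.subtype).codRestrict (algebraMap R K).range fun a => a.2))
  have hθ' : ∀ a : R₀, algebraMap R K (θ' a) = k₀ a.1 := fun a =>
    congrArg Subtype.val (eR.apply_symm_apply ⟨k₀ a.1, a.2⟩)
  have hθk : θ' ≫ CommRingCat.ofHom (algebraMap R K) = CommRingCat.ofHom R₀.subtype ≫ k₀ := by
    ext a; exact hθ' a
  have : IsLocalHom θ'.hom := ⟨fun a ha => by
    by_cases h0 : a.1 = 0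
    · have : θ' a = 0 := hinj (by rw [hθ', h0, map_zero, map_zero])
      rw [this] at ha
      exact absurd ha not_isUnit_zero
    · obtain ⟨z, hz⟩ := ha.exists_right_inv
      have hz' : k₀ a.1 * algebraMap R K z = 1 := by rw [← hθ', ← map_mul, hz, map_one]
      have hinv : a.1⁻¹ ∈ R₀ := ⟨z, by
        show algebraMap R K z = k₀.hom a.1⁻¹
        rw [map_inv₀]; exact (eq_inv_of_mul_eq_one_right hz')⟩
      exact IsUnit.of_mul_eq_one ⟨a.1⁻¹, hinv⟩ (Subtype.ext (mul_inv_cancel₀ h0))⟩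
  -- the valuation ring of the residue field of a generization
  obtain ⟨u, huT, hux⟩ := hd x
  obtain ⟨O, hO, hOloc⟩ := exists_factor_valuationRing
    (X.presheaf.stalkSpecializes hux ≫ h.stalkMap u ≫ U.residue u).hom
  let τ : X.presheaf.stalk x ⟶ CommRingCat.of O := CommRingCat.ofHom (RingHom.codRestrict _ O.toSubring hO)
  have : IsLocalHom τ.hom := hOloc
  let B := Spec.map τ ≫ X.fromSpecStalk x
  have hB : Spec.map (CommRingCat.ofHom O.subtype) ≫ B = U.fromSpecResidueField u ≫ h := by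
    rw [← Spec.map_comp_assoc, Scheme.fromSpecResidueField, Category.assoc,
      ← Scheme.SpecMap_stalkMap_fromSpecStalk, ← Scheme.SpecMap_stalkSpecializes_fromSpecStalk hux]
    simp_rw [← Spec.map_comp_assoc]
    rfl
  have hBc : B (closedPoint O) = x := by
    simp only [B, Scheme.Hom.comp_apply]
    rw [show Spec.map τ (closedPoint O) = closedPoint (X.presheaf.stalk x) from comap_closedPoint τ.hom,
      Scheme.fromSpecStalk_closedPoint]
  let kO := IsLocalRing.ResidueField O
  let ρ : CommRingCat.of O ⟶ CommRingCat.of kO := CommRingCat.ofHom (IsLocalRing.residue O)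
  let ε : X.residueField x ⟶ CommRingCat.of kO := CommRingCat.ofHom (IsLocalRing.ResidueField.map τ.hom)
  have hρB : Spec.map ρ ≫ B = Spec.map ε ≫ X.fromSpecResidueField x := by
    rw [Scheme.fromSpecResidueField, ← Spec.map_comp_assoc, ← Spec.map_comp_assoc]
    rfl
  obtain ⟨V₂, hV₂, hV₂loc⟩ := exists_factor_valuationRing (ε.hom.comp R₀.subtype)
  let ι : CommRingCat.of R₀ ⟶ CommRingCat.of V₂ := CommRingCat.ofHom (RingHom.codRestrict _ V₂.toSubring hV₂)
  have : IsLocalHom ι.hom := hV₂loc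
  have hV₂iff : ∀ a, ε a ∈ V₂ → a ∈ R₀ := fun a ha => by
    by_contra hn
    have hinv : a⁻¹ ∈ R₀ := (R₀.mem_or_inv_mem a).resolve_left hn
    have hu : IsUnit (ι ⟨a⁻¹, hinv⟩) := IsUnit.of_mul_eq_one ⟨ε a, ha⟩ (Subtype.ext (by
      show ε.hom a⁻¹ * ε.hom a = 1
      rw [← map_mul, inv_mul_cancel₀ (fun h0 : a = 0 => hn (h0.symm ▸ R₀.zero_mem)), map_one]))
    obtain ⟨z, hz⟩ := (isUnit_of_map_unit ι.hom _ hu).exists_right_inv
    have hza : z.1 = a := by
      have := congrArg Subtype.val hz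
      simp only [MulMemClass.coe_mul, OneMemClass.coe_one] at this
      have ha0 : a ≠ 0 := fun h0 => hn (h0 ▸ R₀.zero_mem)
      field_simp at this; exact this
    exact hn (hza ▸ z.2)
  let V : ValuationSubring (U.residueField u) :=
    { toSubring := (V₂.toSubring.comap (IsLocalRing.residue O)).map O.subtype
      mem_or_inv_mem' := fun a => by
        by_cases ha : a ∈ O
        · by_cases ha' : (IsLocalRing.residue O ⟨a, ha⟩) ∈ V₂
          · exact Or.inl ⟨_, ha', rfl⟩
          · have hu : IsUnit (⟨a, ha⟩ : O) := by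
              by_contra hnu
              exact ha' (by rw [(IsLocalRing.residue_eq_zero_iff _).mpr hnu]; exact V₂.zero_mem)
            obtain ⟨z, hz⟩ := hu.exists_right_inv
            refine Or.inr ⟨z, ?_, ?_⟩
            · have h1 : IsLocalRing.residue O ⟨a, ha⟩ * IsLocalRing.residue O z = 1 := by
                rw [← map_mul, hz, map_one]
              show IsLocalRing.residue O z ∈ V₂
              rw [eq_inv_of_mul_eq_one_right h1]
              exact (V₂.mem_or_inv_mem _).resolve_left ha'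
            · exact (eq_inv_of_mul_eq_one_right (congrArg Subtype.val hz))
        · have hinv := (O.mem_or_inv_mem a).resolve_left ha
          refine Or.inr ⟨⟨a⁻¹, hinv⟩, ?_, rfl⟩
          have hnu : (⟨a⁻¹, hinv⟩ : O) ∈ maximalIdeal O := fun hu => ha (by
            obtain ⟨z, hz⟩ := hu.exists_right_inv
            have ha0 : a ≠ 0 := fun h0 => ha (h0 ▸ O.zero_mem)
            have := congrArg Subtype.val hz
            simp only [MulMemClass.coe_mul, OneMemClass.coe_one] at this
            field_simp at this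
            exact this ▸ z.2)
          show IsLocalRing.residue O _ ∈ V₂
          rw [(IsLocalRing.residue_eq_zero_iff _).mpr hnu]
          exact V₂.zero_mem }
  have hVO : ∀ a : V, a.1 ∈ O := fun a => by obtain ⟨z, -, hz⟩ := a.2; exact hz ▸ z.2
  let j : CommRingCat.of V ⟶ CommRingCat.of O :=
    CommRingCat.ofHom (V.subtype.codRestrict O.toSubring hVO)
  have hπmem : ∀ a : V, IsLocalRing.residue O (j a) ∈ V₂ := fun a => by
    obtain ⟨z, hz, hz'⟩ := a.2
    rwa [show j a = z from Subtype.ext hz'.symm]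
  let π : CommRingCat.of V ⟶ CommRingCat.of V₂ :=
    CommRingCat.ofHom ((ρ.hom.comp j.hom).codRestrict V₂.toSubring hπmem)
  have hπs : Function.Surjective π := fun a => by
    obtain ⟨z, hz⟩ := IsLocalRing.residue_surjective (R := O) a.1
    exact ⟨⟨z.1, z, by show IsLocalRing.residue O z ∈ V₂; rw [hz]; exact a.2, rfl⟩, Subtype.ext hz⟩
  have : IsLocalHom π.hom := IsLocalHom.of_surjective _ hπs
  -- the base
  obtain ⟨_, ⟨(S₀ : S.Opens), (hS₀ : IsAffineOpen S₀), rfl⟩, (hs : i₂ (closedPoint R) ∈ S₀), -⟩ :=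
    S.isBasis_affineOpens.exists_subset_of_mem_open (Set.mem_univ (i₂ (closedPoint R))) isOpen_univ
  obtain ⟨ψ, hψ⟩ := exists_affine_fac i₂ hS₀ hs
  have hfx : f x ∈ S₀ := by
    have := congrArg (fun m : Spec (CommRingCat.of K) ⟶ S => m (closedPoint K)) hsq
    simp only [Scheme.Hom.comp_apply, Scheme.fromSpecResidueField_apply] at this
    rw [this]
    exact range_subset_of_closedPoint i₂ hs ⟨_, rfl⟩
  obtain ⟨ev, hev⟩ := exists_affine_fac (X.fromSpecResidueField x ≫ f) hS₀
    (by rw [Scheme.Hom.comp_apply, Scheme.fromSpecResidueField_apply]; exact hfx)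
  have hevk : ev ≫ k₀ = ψ ≫ CommRingCat.ofHom (algebraMap R K) := by
    refine ringHom_eq_of_comp_eq hS₀ ?_
    rw [Spec.map_comp_assoc, hev, Spec.map_comp_assoc, hψ, ← hsq, Category.assoc]
  let ev₀ : Γ(S, S₀) ⟶ CommRingCat.of R₀ := CommRingCat.ofHom (ev.hom.codRestrict R₀.toSubring
    fun a => ⟨ψ a, (congrArg (fun m : Γ(S, S₀) ⟶ CommRingCat.of K => m.hom a) hevk).symm⟩)
  let y₀ := Spec.map ev₀ ≫ hS₀.fromSpec
  have hy₀ : Spec.map θ' ≫ y₀ = i₂ := by
    rw [← hψ, ← Spec.map_comp_assoc]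
    congr 2
    ext a
    exact hinj ((hθ' (ev₀ a)).trans (congrArg (fun m : Γ(S, S₀) ⟶ CommRingCat.of K => m.hom a) hevk))
  have hy₀x : Spec.map (CommRingCat.ofHom R₀.subtype) ≫ y₀ = X.fromSpecResidueField x ≫ f := by
    rw [← Spec.map_comp_assoc, ← hev]; rfl
  obtain ⟨aO, haO⟩ := exists_affine_fac (B ≫ f) hS₀ (by rw [Scheme.Hom.comp_apply, hBc]; exact hfx)
  have haρ : aO ≫ ρ = ev ≫ ε := by
    refine ringHom_eq_of_comp_eq hS₀ ?_
    rw [Spec.map_comp_assoc, haO, reassoc_of% hρB, Spec.map_comp_assoc, hev]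
  have haV : ∀ r, (aO r).1 ∈ V := fun r => ⟨aO r, by
    show IsLocalRing.residue O (aO r) ∈ V₂
    rw [show IsLocalRing.residue O (aO r) = ε (ev r) from
        congrArg (fun m : Γ(S, S₀) ⟶ CommRingCat.of kO => m.hom r) haρ]
    exact hV₂ (ev₀ r), rfl⟩
  let aV : Γ(S, S₀) ⟶ CommRingCat.of V :=
    CommRingCat.ofHom (((O.subtype).comp aO.hom).codRestrict V.toSubring haV)
  let y := Spec.map aV ≫ hS₀.fromSpec
  have hjy : Spec.map j ≫ y = B ≫ f := by rw [← haO, ← Spec.map_comp_assoc]; rfl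
  obtain ⟨l', hl'f, hl'⟩ := H u huT V y (by
    rw [← reassoc_of% hB, ← hjy, ← Spec.map_comp_assoc, ← Spec.map_comp_assoc,
      ← Spec.map_comp_assoc]
    rfl)
  -- comparison over `O`
  have hjl : Spec.map j ≫ l' = B := by
    refine Huniq u huT O _ _ ?_ hB ?_
    · rw [← Spec.map_comp_assoc]
      exact hl'
    · rw [Category.assoc, hl'f, hjy]
  let l₂ := Spec.map π ≫ l'
  have hl₂ : Spec.map (CommRingCat.ofHom V₂.subtype) ≫ l₂ = Spec.map ε ≫ X.fromSpecResidueField x := by
    rw [← hρB, ← hjl, ← Spec.map_comp_assoc, ← Spec.map_comp_assoc]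
    rfl
  let c₂ := l₂ (closedPoint V₂)
  obtain ⟨_, ⟨(W : X.Opens), (hW : IsAffineOpen W), rfl⟩, (hxW : c₂ ∈ W), -⟩ :=
    X.isBasis_affineOpens.exists_subset_of_mem_open (Set.mem_univ c₂) isOpen_univ
  obtain ⟨ψ₂, hψ₂⟩ := exists_affine_fac l₂ hW hxW
  have hxmem : x ∈ W := by
    have := congrArg (fun m : Spec (CommRingCat.of kO) ⟶ X => m (closedPoint kO)) hl₂
    simp only [Scheme.Hom.comp_apply, Scheme.fromSpecResidueField_apply] at this
    rw [← this]
    exact range_subset_of_closedPoint l₂ hxW ⟨_, rfl⟩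
  obtain ⟨e₁, he₁⟩ := exists_affine_fac (X.fromSpecResidueField x) hW
    (by rw [Scheme.fromSpecResidueField_apply]; exact hxmem)
  have hψe : ψ₂ ≫ CommRingCat.ofHom V₂.subtype = e₁ ≫ ε := by
    refine ringHom_eq_of_comp_eq hW ?_
    rw [Spec.map_comp_assoc, hψ₂, hl₂, Spec.map_comp_assoc, he₁]
  have heR : ∀ r, e₁ r ∈ R₀ := fun r => hV₂iff _ (by
    rw [show ε (e₁ r) = (ψ₂ r).1 from
      (congrArg (fun m : Γ(X, W) ⟶ CommRingCat.of kO => m.hom r) hψe).symm]
    exact (ψ₂ r).2)
  let θ : Γ(X, W) ⟶ CommRingCat.of R₀ := CommRingCat.ofHom (e₁.hom.codRestrict R₀.toSubring heR)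
  let l₀ := Spec.map θ ≫ hW.fromSpec
  have hιl : Spec.map ι ≫ l₀ = l₂ := by
    rw [← hψ₂, ← Spec.map_comp_assoc]
    congr 2
    ext r
    exact (congrArg (fun m : Γ(X, W) ⟶ CommRingCat.of kO => m.hom r) hψe).symm
  have hιc : Spec.map ι (closedPoint V₂) = closedPoint R₀ := comap_closedPoint ι.hom
  have hl₀x : Spec.map (CommRingCat.ofHom R₀.subtype) ≫ l₀ = X.fromSpecResidueField x := by
    rw [← he₁, ← Spec.map_comp_assoc]; rfl
  have hιy : Spec.map ι ≫ y₀ = Spec.map π ≫ y := by
    rw [← Spec.map_comp_assoc, ← Spec.map_comp_assoc]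
    congr 2
    ext r
    exact (congrArg (fun m : Γ(S, S₀) ⟶ CommRingCat.of kO => m.hom r) haρ).symm
  have hl₀f : l₀ ≫ f = y₀ := by
    refine eq_of_injective (CommRingCat.ofHom R₀.subtype) Subtype.val_injective hS₀ _ _ ?_ ?_ ?_
    · rw [← hιc, ← Scheme.Hom.comp_apply, reassoc_of% hιl, Category.assoc, hl'f, ← hιy,
        Scheme.Hom.comp_apply, Scheme.Hom.comp_apply, ← SetLike.mem_coe, ← hS₀.range_fromSpec]
      exact ⟨_, rfl⟩
    · rw [Scheme.Hom.comp_apply, ← SetLike.mem_coe, ← hS₀.range_fromSpec]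
      exact ⟨_, rfl⟩
    · rw [reassoc_of% hl₀x, hy₀x]
  refine ⟨⟨{ l := Spec.map θ' ≫ l₀, fac_left := ?_, fac_right := ?_ }⟩⟩
  · rw [← Spec.map_comp_assoc, hθk, Spec.map_comp_assoc, hl₀x]
  · rw [Category.assoc, hl₀f, hy₀]

/-- A unique lift for all squares through `h` gives the existence part. -/
theorem universallyClosed_of_unique_lifts {U X S : Scheme.{u}} (f : X ⟶ S) (h : U ⟶ X)
    [QuasiCompact f] [QuasiCompact h] (hd : DenseRange h.base)
    (H : ∀ sq : ValuativeCommSq f, (∃ i : Spec (.of sq.K) ⟶ U, i ≫ h = sq.i₁) →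
      Nonempty (Unique sq.commSq.LiftStruct)) : UniversallyClosed f := by
  refine UniversallyClosed.of_valuativeCriterion f (existence_of_lifts f h Set.univ
    (fun x => let ⟨u, hu⟩ := exists_specializes_of_denseRange h hd x; ⟨u, trivial, hu⟩)
    (fun u _ V y hy => ?_) fun u _ O a b ha hb hab => ?_)
  · let sq : ValuativeCommSq f :=
      { R := V, K := U.residueField u, i₁ := U.fromSpecResidueField u ≫ h, i₂ := y,
        commSq := ⟨(Category.assoc _ _ _).trans hy.symm⟩ }
    obtain ⟨hu'⟩ := H sq ⟨U.fromSpecResidueField u, rfl⟩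
    exact ⟨hu'.default.l, hu'.default.fac_right, hu'.default.fac_left⟩
  · let sq : ValuativeCommSq f :=
      { R := O, K := U.residueField u, i₁ := U.fromSpecResidueField u ≫ h, i₂ := a ≫ f,
        commSq := ⟨by rw [← ha, Category.assoc]; rfl⟩ }
    obtain ⟨hu'⟩ := H sq ⟨U.fromSpecResidueField u, rfl⟩
    exact congrArg CommSq.LiftStruct.l ((hu'.uniq ⟨a, ha, rfl⟩).trans (hu'.uniq ⟨b, hb, hab.symm⟩).symm)

/-- Uniqueness of such lifts gives separatedness. -/
theorem isSeparated_of_unique_lifts {U X S : Scheme.{u}} (f : X ⟶ S) (h : U ⟶ X)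
    [QuasiSeparated f] [QuasiCompact h] (hd : DenseRange h.base)
    (H : ∀ sq : ValuativeCommSq f, (∃ i : Spec (.of sq.K) ⟶ U, i ≫ h = sq.i₁) →
      Nonempty (Unique sq.commSq.LiftStruct)) : IsSeparated f := by
  have : UniversallyClosed (pullback.diagonal f) := by
    refine universallyClosed_of_unique_lifts (pullback.diagonal f) h hd fun sq ⟨i, hi⟩ => ?_
    have h1 : sq.i₁ = Spec.map (CommRingCat.ofHom (algebraMap sq.R sq.K)) ≫ sq.i₂ ≫ pullback.fst f f := by
      rw [← reassoc_of% sq.commSq.w, pullback.diagonal_fst, Category.comp_id]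
    have h2 : sq.i₁ = Spec.map (CommRingCat.ofHom (algebraMap sq.R sq.K)) ≫ sq.i₂ ≫ pullback.snd f f := by
      rw [← reassoc_of% sq.commSq.w, pullback.diagonal_snd, Category.comp_id]
    let sq' : ValuativeCommSq f :=
      { R := sq.R, K := sq.K, i₁ := sq.i₁, i₂ := sq.i₂ ≫ pullback.fst f f ≫ f,
        commSq := ⟨by rw [h1]; simp only [Category.assoc]⟩ }
    obtain ⟨hu'⟩ := H sq' ⟨i, hi⟩
    have he : sq.i₂ ≫ pullback.fst f f = sq.i₂ ≫ pullback.snd f f :=
      congrArg CommSq.LiftStruct.l ((hu'.uniq ⟨sq.i₂ ≫ pullback.fst f f, h1.symm, Category.assoc _ _ _⟩).trans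
        (hu'.uniq ⟨sq.i₂ ≫ pullback.snd f f, h2.symm, by
          show (sq.i₂ ≫ pullback.snd f f) ≫ f = sq.i₂ ≫ pullback.fst f f ≫ f
          rw [Category.assoc, ← pullback.condition]⟩).symm)
    have hl : (sq.i₂ ≫ pullback.fst f f) ≫ pullback.diagonal f = sq.i₂ := by
      apply pullback.hom_ext
      · simp
      · simpa using he
    exact ⟨⟨⟨⟨sq.i₂ ≫ pullback.fst f f, h1.symm, hl⟩⟩, fun l => by
      ext
      rw [← cancel_mono (pullback.diagonal f)]
      exact l.fac_right.trans hl.symm⟩⟩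
  exact ⟨IsClosedImmersion.of_isPreimmersion _ (pullback.diagonal f).isClosedMap.isClosed_range⟩

end Groth.Agent.Val57
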