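import Groth.Agent.EGA73.ExtendCodimOne
import Groth.Agent.Norm57.GenPoints
import Groth.Agent.Fin57.GenericFinite
import Mathlib.AlgebraicGeometry.ValuativeCriterion

/-! Extending morphisms to proper targets across a point whose local ring is a valuation ring. -/

set_option autoImplicit false
set_option backward.isDefEq.respectTransparency.types false
set_option linter.style.haveILetI false
universe u

open CategoryTheory CategoryTheory.Limits AlgebraicGeometry TopologicalSpace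

namespace Groth.Agent.Val57

open Norm57 (IsMax')

variable {X : Scheme.{u}}

/-- A point with a domain as local ring has a unique maximal generization. -/
theorem eq_of_isMax'_specializes (x : X) [IsDomain (X.presheaf.stalk x)] {a b : X}
    (ha : IsMax' a) (hb : IsMax' b) (hax : a ⤳ x) (hbx : b ⤳ x) : a = b := by
  let g := X.fromSpecStalk x (genericPoint (Spec (X.presheaf.stalk x)))
  have h : ∀ {c : X}, IsMax' c → c ⤳ x → g = c := fun {c} hc hcx => by
    obtain ⟨r, hr⟩ : c ∈ Set.range (X.fromSpecStalk x) := by rw [Scheme.range_fromSpecStalk]; exact hcx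
    exact hc _ (hr ▸ (genericPoint_specializes r).map (X.fromSpecStalk x).continuous)
  exact (h ha hax).symm.trans (h hb hbx)

/-- Near a point with a domain as local ring there is an integral open. -/
theorem exists_isIntegral_nbhd (x : X) [IsDomain (X.presheaf.stalk x)]
    (hX : (AlgebraicGeometry.IsReduced X ∧ (irreducibleComponents ↥X).Finite) ∨ IsNoetherian X) :
    ∃ W : X.Opens, x ∈ W ∧ AlgebraicGeometry.IsIntegral W.toScheme := by
  have hfin : (irreducibleComponents ↥X).Finite := by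
    rcases hX with ⟨-, h⟩ | h
    · exact h
    · exact NoetherianSpace.finite_irreducibleComponents (α := ↥X)
  obtain ⟨O, hO, hOd⟩ := Fin57.exists_disjoint_opens hfin
  obtain ⟨w, hw, hwx⟩ := Norm57.exists_isMax'_specializes x
  let C : Set X := ⋃₀ {t ∈ irreducibleComponents X | x ∉ t}
  have hC : IsClosed C := by
    rw [show C = ⋃ t ∈ {t ∈ irreducibleComponents X | x ∉ t}, t from Set.sUnion_eq_biUnion]
    exact (hfin.subset (Set.sep_subset _ _)).isClosed_biUnion
      fun t ht => isClosed_of_mem_irreducibleComponents t ht.1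
  let W₀ : X.Opens := ⟨Cᶜ, hC.isOpen_compl⟩
  have hxW₀ : x ∈ W₀ := fun ⟨t, ht, hxt⟩ => ht.2 hxt
  have hgen : ∀ z ∈ W₀, w ⤳ z := fun z hz => by
    obtain ⟨v, hv, hvz⟩ := Norm57.exists_isMax'_specializes z
    have hxv : x ∈ closure {v} := by
      by_contra hxv
      exact hz ⟨closure {v}, ⟨Norm57.isMax'_iff.mp hv, hxv⟩, specializes_iff_mem_closure.mp hvz⟩
    exact eq_of_isMax'_specializes x hv hw (specializes_iff_mem_closure.mpr hxv) hwx ▸ hvz
  obtain ⟨W₁, hxW₁, hred⟩ : ∃ W₁ : X.Opens, x ∈ W₁ ∧ AlgebraicGeometry.IsReduced W₁.toScheme := by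
    rcases hX with ⟨h, -⟩ | h
    · exact ⟨⊤, trivial, inferInstance⟩
    obtain ⟨U, hU, hxU, -⟩ := exists_isAffineOpen_mem_and_subset (x := x) (U := ⊤) trivial
    haveI : IsNoetherianRing Γ(X, U) := IsLocallyNoetherian.component_noetherian ⟨U, hU⟩
    letI := X.presheaf.algebra_section_stalk ⟨x, hxU⟩
    haveI : IsLocalization.AtPrime (X.presheaf.stalk x) (hU.primeIdealOf ⟨x, hxU⟩).asIdeal :=
      hU.isLocalization_stalk ⟨x, hxU⟩
    obtain ⟨G, hG⟩ := IsNoetherian.noetherian (nilradical Γ(X, U))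
    have hann : ∀ a ∈ G, ∃ t ∉ (hU.primeIdealOf ⟨x, hxU⟩).asIdeal, t * a = 0 := fun a ha => by
      have h0 : algebraMap Γ(X, U) (X.presheaf.stalk x) a = 0 :=
        ((mem_nilradical.mp (hG.le (Submodule.subset_span ha))).map _).eq_zero
      obtain ⟨⟨t, ht⟩, hta⟩ := (IsLocalization.map_eq_zero_iff
        (hU.primeIdealOf ⟨x, hxU⟩).asIdeal.primeCompl (X.presheaf.stalk x) a).mp h0
      exact ⟨t, ht, hta⟩
    classical
    choose t ht hta using hann
    let g := ∏ a ∈ G.attach, t a.1 a.2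
    have hgx : g ∉ (hU.primeIdealOf ⟨x, hxU⟩).asIdeal := fun h =>
      Submonoid.prod_mem (hU.primeIdealOf ⟨x, hxU⟩).asIdeal.primeCompl (fun a _ => ht a.1 a.2) h
    have hkill : ∀ n ∈ nilradical Γ(X, U), g * n = 0 := fun n hn => by
      have hn' : n ∈ Submodule.span Γ(X, U) (G : Set Γ(X, U)) := hG.ge hn
      induction hn' using Submodule.span_induction with
      | mem a ha =>
        change (∏ a ∈ G.attach, t a.1 a.2) * a = 0
        rw [← Finset.prod_erase_mul _ _ (Finset.mem_attach G ⟨a, ha⟩), mul_assoc, hta, mul_zero]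
      | zero => exact mul_zero _
      | add u v hu hv ihu ihv =>
        rw [mul_add, ihu (hG.le hu), ihv (hG.le hv), add_zero]
      | smul r u hu ihu => rw [smul_eq_mul, mul_left_comm, ihu (hG.le hu), mul_zero]
    refine ⟨X.basicOpen g, ?_, ?_⟩
    · have h := hU.fromSpec_primeIdealOf ⟨x, hxU⟩
      have h' : hU.primeIdealOf ⟨x, hxU⟩ ∈ hU.fromSpec ⁻¹ᵁ X.basicOpen g := by
        rw [hU.fromSpec_preimage_basicOpen]
        exact hgx
      show x ∈ X.basicOpen g
      rw [show x = hU.fromSpec (hU.primeIdealOf ⟨x, hxU⟩) from h.symm]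
      exact h'
    · haveI : IsAffine (X.basicOpen g).toScheme := hU.basicOpen g
      letI := (X.presheaf.map (homOfLE (X.basicOpen_le g)).op).hom.toAlgebra
      haveI : IsLocalization.Away g Γ(X, X.basicOpen g) := hU.isLocalization_basicOpen g
      have : _root_.IsReduced Γ(X, X.basicOpen g) := ⟨fun z hz => by
        obtain ⟨n, a, ha⟩ := IsLocalization.Away.surj g z
        obtain ⟨k, hk⟩ : IsNilpotent (algebraMap Γ(X, U) Γ(X, X.basicOpen g) a) := by
          rw [← ha]; exact (Commute.all _ _).isNilpotent_mul_right hz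
        rw [← map_pow] at hk
        obtain ⟨⟨_, m, rfl⟩, hm⟩ :=
          (IsLocalization.map_eq_zero_iff (Submonoid.powers g) _ _).mp hk
        have hnil : IsNilpotent (g ^ m * a) := ⟨k + 1, by
          rw [pow_succ, mul_pow]
          linear_combination ((g ^ m) ^ k * a) * hm⟩
        have := hkill _ (mem_nilradical.mpr hnil)
        have h0 : algebraMap Γ(X, U) Γ(X, X.basicOpen g) a = 0 := by
          refine ((IsLocalization.Away.algebraMap_isUnit g).mul_right_eq_zero).mp ?_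
          refine ((IsLocalization.Away.algebraMap_isUnit g).pow m).mul_right_eq_zero.mp ?_
          rw [← map_pow, ← map_mul, ← map_mul, show g ^ m * (g * a) = g * (g ^ m * a) by ring, this,
            map_zero]
        rw [h0] at ha
        exact ((IsLocalization.Away.algebraMap_isUnit g).pow n).mul_left_eq_zero.mp ha⟩
      haveI : _root_.IsReduced Γ((X.basicOpen g).toScheme, ⊤) :=
        isReduced_of_injective (X.basicOpen g).topIso.hom.hom (ConcreteCategory.bijective_of_isIso _).1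
      exact isReduced_of_isOpenImmersion (X.basicOpen g).toScheme.isoSpec.hom
  refine ⟨W₀ ⊓ W₁, ⟨hxW₀, hxW₁⟩, ?_⟩
  haveI := hred
  haveI : AlgebraicGeometry.IsReduced (W₀ ⊓ W₁).toScheme :=
    isReduced_of_isOpenImmersion (X.homOfLE (inf_le_right : W₀ ⊓ W₁ ≤ W₁))
  have hwW : w ∈ W₀ ⊓ W₁ := hwx.mem_open (W₀ ⊓ W₁).2 ⟨hxW₀, hxW₁⟩
  haveI : IrreducibleSpace (W₀ ⊓ W₁).toScheme :=
    (irreducibleSpace_def _).mpr (by
      have he : closure ({⟨w, hwW⟩} : Set (W₀ ⊓ W₁).toScheme) = Set.univ :=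
        Set.eq_univ_of_forall fun v => specializes_iff_mem_closure.mp
          (((W₀ ⊓ W₁).ι.isEmbedding.isInducing.specializes_iff).mp (hgen v.1 v.2.1))
      rw [Set.top_eq_univ, ← he]
      exact isIrreducible_singleton.closure)
  exact isIntegral_of_irreducibleSpace_of_isReduced _

/-- Extension over a point with valuation local ring on an integral scheme. -/
theorem exists_local_extension {W Y S : Scheme.{u}} [AlgebraicGeometry.IsIntegral W] (p : W ⟶ S)
    (q : Y ⟶ S) [IsProper q] (V : W.Opens) (hV : (V : Set W).Nonempty)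
    (g : (V : Scheme.{u}) ⟶ Y) (hg : g ≫ q = V.ι ≫ p) (x : W)
    [ValuationRing (W.presheaf.stalk x)] :
    ∃ (W' : W.Opens) (g' : (W' : Scheme.{u}) ⟶ Y), x ∈ W' ∧ g' ≫ q = W'.ι ≫ p ∧
      W.homOfLE (inf_le_left : W' ⊓ V ≤ W') ≫ g' = W.homOfLE (inf_le_right : W' ⊓ V ≤ V) ≫ g := by
  let β : Spec (CommRingCat.of W.functionField) ⟶ Spec (W.presheaf.stalk x) :=
    Spec.map (CommRingCat.ofHom (algebraMap (W.presheaf.stalk x) W.functionField))
  have hβ : β ≫ W.fromSpecStalk x = W.fromSpecStalk (genericPoint W) :=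
    Scheme.SpecMap_stalkSpecializes_fromSpecStalk (genericPoint_specializes x)
  have hηV : genericPoint W ∈ V :=
    ((genericPoint_spec W).mem_open_set_iff V.2).mpr (by simpa using hV)
  let k := V.fromSpecStalkOfMem (genericPoint W) hηV
  have hk : k ≫ V.ι = W.fromSpecStalk (genericPoint W) := V.fromSpecStalkOfMem_ι _ _
  let sq : ValuativeCommSq q :=
    @ValuativeCommSq.mk _ _ q (W.presheaf.stalk x) inferInstance inferInstance ‹_› W.functionField
      inferInstance inferInstance inferInstance (k ≫ g) (W.fromSpecStalk x ≫ p)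
      ⟨by rw [Category.assoc, hg, reassoc_of% hk, ← hβ, Category.assoc]; rfl⟩
  have hvc : ValuativeCriterion q :=
    ((IsProper.eq_valuativeCriterion ▸ ‹IsProper q› :
      (ValuativeCriterion ⊓ @QuasiCompact ⊓ @QuasiSeparated ⊓ @LocallyOfFiniteType :
        MorphismProperty Scheme) q)).1.1.1
  obtain ⟨hu⟩ := hvc sq
  let l := hu.default
  obtain ⟨W', hxW', g', hl, hg'⟩ := spread_out_of_isGermInjective' p q (x := x)
    (show Spec (W.presheaf.stalk x) ⟶ Y from l.l) l.fac_right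
  refine ⟨W', g', hxW', hg', ?_⟩
  have hηW' : genericPoint W ∈ W' := (genericPoint_specializes x).mem_open W'.2 hxW'
  let m := (W' ⊓ V).fromSpecStalkOfMem (genericPoint W) ⟨hηW', hηV⟩
  haveI : IsDominant m := by
    refine ⟨fun z => ?_⟩
    have hsp : m (IsLocalRing.closedPoint _) ⤳ z := by
      rw [← (W' ⊓ V).ι.isOpenEmbedding.isInducing.specializes_iff, ← Scheme.Hom.comp_apply,
        Scheme.Opens.fromSpecStalkOfMem_ι, Scheme.fromSpecStalk_closedPoint]
      exact genericPoint_specializes _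
    exact closure_mono (Set.singleton_subset_iff.mpr (Set.mem_range_self _)) hsp.mem_closure
  refine ext_of_isDominant_of_isSeparated q ?_ m ?_
  · simp only [Category.assoc, hg', hg, Scheme.homOfLE_ι_assoc]
  · have h1 : m ≫ W.homOfLE (inf_le_left : W' ⊓ V ≤ W') = β ≫ W'.fromSpecStalkOfMem x hxW' := by
      rw [← cancel_mono W'.ι, Category.assoc, Category.assoc, Scheme.homOfLE_ι,
        Scheme.Opens.fromSpecStalkOfMem_ι, Scheme.Opens.fromSpecStalkOfMem_ι, hβ]
    have h2 : m ≫ W.homOfLE (inf_le_right : W' ⊓ V ≤ V) = k := by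
      rw [← cancel_mono V.ι, Category.assoc, Scheme.homOfLE_ι, Scheme.Opens.fromSpecStalkOfMem_ι, hk]
    rw [reassoc_of% h1, ← hl, reassoc_of% h2]
    exact l.fac_left

/-- The extension theorem. -/
theorem exists_extension {Y S : Scheme.{u}} (p : X ⟶ S) (q : Y ⟶ S)
    [IsProper q] (x : X) (U : X.Opens) (f : (U : Scheme.{u}) ⟶ Y) (hf : f ≫ q = U.ι ≫ p)
    (hx : x ∈ closure (U : Set ↥X))
    (hX : (AlgebraicGeometry.IsReduced X ∧ (irreducibleComponents ↥X).Finite) ∨ IsNoetherian X)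
    [IsDomain (X.presheaf.stalk x)] [ValuationRing (X.presheaf.stalk x)] :
    ∃ (U' : X.Opens) (hUU' : U ≤ U'), x ∈ U' ∧
      ∃ f' : (U' : Scheme.{u}) ⟶ Y, f' ≫ q = U'.ι ≫ p ∧ X.homOfLE hUU' ≫ f' = f := by
  obtain ⟨W, hxW, hW⟩ := exists_isIntegral_nbhd x hX
  let xW : W.toScheme := ⟨x, hxW⟩
  haveI : ValuationRing (W.toScheme.presheaf.stalk xW) := by
    haveI h1 : IsIso (W.ι.stalkMap xW) := (IsOpenImmersion.iff_isIso_stalkMap.mp inferInstance).2 xW
    haveI : IsDomain (X.presheaf.stalk (W.ι xW)) := inferInstanceAs (IsDomain (X.presheaf.stalk x))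
    haveI : ValuationRing (X.presheaf.stalk (W.ι xW)) := inferInstanceAs (ValuationRing (X.presheaf.stalk x))
    exact (asIso (W.ι.stalkMap xW)).commRingCatIsoToRingEquiv.surjective.valuationRing
  let V : W.toScheme.Opens := W.ι ⁻¹ᵁ U
  have hV : (V : Set W.toScheme).Nonempty := by
    obtain ⟨z, hzW, hzU⟩ := mem_closure_iff.mp hx W W.2 hxW
    exact ⟨⟨z, hzW⟩, hzU⟩
  let gV : (V : Scheme.{u}) ⟶ Y := (W.ι ∣_ U) ≫ f
  obtain ⟨W', g', hxW', hg', hagree⟩ := exists_local_extension (W.ι ≫ p) q V hV gV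
    (by simp only [gV, Category.assoc, hf]; rw [morphismRestrict_ι_assoc]) xW
  let W'' : X.Opens := W.ι ''ᵁ W'
  let g'' : (W'' : Scheme.{u}) ⟶ Y := (W.ι.isoImage W').inv ≫ g'
  have hg'' : g'' ≫ q = W''.ι ≫ p := by
    simp only [g'', W'', Category.assoc, hg']
    rw [Scheme.Hom.isoImage_inv_ι_assoc]
  let Wi : ULift.{u} Bool → X.Opens := fun b => if b.down then W'' else U
  let gi : ∀ b, (Wi b).toScheme ⟶ Y := fun b => match b with
    | ⟨true⟩ => g''
    | ⟨false⟩ => f
  have hgi : ∀ b, gi b ≫ q = (Wi b).ι ≫ p := fun b => match b with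
    | ⟨true⟩ => hg''
    | ⟨false⟩ => hf
  have key : ∀ (T : Scheme.{u}) (a : T ⟶ W''.toScheme) (b : T ⟶ U.toScheme),
      a ≫ W''.ι = b ≫ U.ι → a ≫ g'' = b ≫ f := by
    intro T a b hab
    let a' : T ⟶ W'.toScheme := a ≫ (W.ι.isoImage W').inv
    have ha' : a' ≫ W'.ι ≫ W.ι = b ≫ U.ι := by
      simp only [a', Category.assoc]
      rw [Scheme.Hom.isoImage_inv_ι]
      exact hab
    have hr : Set.range (a' ≫ W'.ι) ⊆ Set.range (W' ⊓ V).ι := by
      rw [Scheme.Opens.range_ι]
      rintro _ ⟨t, rfl⟩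
      refine ⟨(a' t).2, ?_⟩
      change W.ι ((a' ≫ W'.ι) t) ∈ U
      rw [← Scheme.Hom.comp_apply, Category.assoc, ha', Scheme.Hom.comp_apply]
      exact (b t).2
    let c := IsOpenImmersion.lift (W' ⊓ V).ι (a' ≫ W'.ι) hr
    have hc : c ≫ (W' ⊓ V).ι = a' ≫ W'.ι := IsOpenImmersion.lift_fac _ _ _
    have h1 : c ≫ W.toScheme.homOfLE (inf_le_left : W' ⊓ V ≤ W') = a' := by
      rw [← cancel_mono W'.ι, Category.assoc, Scheme.homOfLE_ι, hc]
    have h2 : c ≫ W.toScheme.homOfLE (inf_le_right : W' ⊓ V ≤ V) ≫ (W.ι ∣_ U) = b := by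
      rw [← cancel_mono U.ι, Category.assoc, Category.assoc, morphismRestrict_ι]
      calc c ≫ W.toScheme.homOfLE (inf_le_right : W' ⊓ V ≤ V) ≫ V.ι ≫ W.ι
          = (c ≫ (W.toScheme.homOfLE (inf_le_right : W' ⊓ V ≤ V) ≫ V.ι)) ≫ W.ι := by
            simp only [Category.assoc]
        _ = (c ≫ (W' ⊓ V).ι) ≫ W.ι := by rw [Scheme.homOfLE_ι]
        _ = b ≫ U.ι := by rw [hc, Category.assoc]; exact ha'
    calc a ≫ g'' = a' ≫ g' := (Category.assoc _ _ _).symm
      _ = c ≫ W.toScheme.homOfLE _ ≫ g' := by rw [reassoc_of% h1]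
      _ = c ≫ W.toScheme.homOfLE _ ≫ gV := by rw [hagree]
      _ = b ≫ f := by simp only [gV]; rw [reassoc_of% h2]
  obtain ⟨f', hf'⟩ := EGA73.exists_glue_opens Wi gi fun i j T a b hab _ => by
    match i, j with
    | ⟨true⟩, ⟨true⟩ =>
      have : a = b := (cancel_mono (Wi ⟨true⟩).ι).mp hab
      rw [this]
    | ⟨false⟩, ⟨false⟩ =>
      have : a = b := (cancel_mono (Wi ⟨false⟩).ι).mp hab
      rw [this]
    | ⟨true⟩, ⟨false⟩ => exact key T a b hab
    | ⟨false⟩, ⟨true⟩ => exact (key T b a hab.symm).symm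
  refine ⟨⨆ b, Wi b, le_iSup Wi ⟨false⟩, Opens.mem_iSup.mpr ⟨⟨true⟩, ⟨xW, hxW', rfl⟩⟩, f', ?_, hf' ⟨false⟩⟩
  refine Scheme.Cover.hom_ext (Scheme.Opens.iSupOpenCover Wi) _ _ fun o => ?_
  change X.homOfLE (le_iSup Wi o) ≫ _ = X.homOfLE (le_iSup Wi o) ≫ _
  rw [← Category.assoc, hf', hgi, ← Category.assoc, Scheme.homOfLE_ι]

end Groth.Agent.Val57
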